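import Groth.Agent.H10Coh.FamEnd.Rank
import Groth.Agent.H10Coh.Kunneth.Base
import Groth.Agent.H17.EdgeIso.Scheme
import Groth.Agent.H16Derived.KFlat.SheafDerived
import Groth.Prelude.Def_KLin
import Groth.Prelude.Def_ega3

/-!
# Endomorphisms of a fibre and a module representing `M ↦ Hom(F, M ⊗ F)`
-/

set_option autoImplicit false
set_option linter.style.haveILetI false
set_option linter.unusedSectionVars false
set_option backward.isDefEq.respectTransparency.types false
set_option synthInstance.maxHeartbeats 400000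
set_option maxHeartbeats 1000000

noncomputable section

universe u

open CategoryTheory CategoryTheory.Limits AlgebraicGeometry Opposite TopologicalSpace TensorProduct

namespace Groth.Agent.H10Coh.FamEnd

variable {A : Type u} [CommRing A] {K : Type u} [Field K] [Algebra A K]

variable (A K) in
/-- The point `Spec K ⟶ Spec A`. -/
abbrev τ : Spec (CommRingCat.of K) ⟶ Spec (CommRingCat.of A) := Spec.map (CommRingCat.ofHom (algebraMap A K))

variable (A K) in
/-- The direct image of the structure sheaf of the point. -/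
abbrev skyK : (Spec (CommRingCat.of A)).Modules :=
  (Scheme.Modules.pushforward (τ A K)).obj (Coh.structureModule (Spec (CommRingCat.of K)))

variable (A K) in
/-- Its sections. -/
def M0 : ModuleCat.{u} A := (moduleSpecΓFunctor (R := CommRingCat.of A)).obj (skyK A K)

variable (A K) in
/-- The comparison with the tilde construction. -/
abbrev ε : (moduleSpecΓFunctor (R := CommRingCat.of A) ⋙ tilde.functor (CommRingCat.of A)).obj (skyK A K) ⟶ skyK A K :=
  (Scheme.Modules.fromTildeΓNatTrans (R := CommRingCat.of A)).app (skyK A K)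

theorem appTop_inv (a : A) : (τ A K).app ⊤ ((Scheme.ΓSpecIso (CommRingCat.of A)).inv a) =
    (Scheme.ΓSpecIso (CommRingCat.of K)).inv (algebraMap A K a) :=
  (ConcreteCategory.congr_hom (Scheme.ΓSpecIso_inv_naturality (CommRingCat.ofHom (algebraMap A K))) a).symm

variable (A K) in
/-- The sections are `K`. -/
def κlin : K ≃ₗ[A] (M0 A K : ModuleCat.{u} A) :=
    { toFun := fun c => show Γ(Spec (CommRingCat.of K), ⊤) from (Scheme.ΓSpecIso (CommRingCat.of K)).inv c
      invFun := fun m => (Scheme.ΓSpecIso (CommRingCat.of K)).hom (show Γ(Spec (CommRingCat.of K), ⊤) from m)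
      left_inv := fun c => Iso.inv_hom_id_apply (Scheme.ΓSpecIso (CommRingCat.of K)) c
      right_inv := fun m => Iso.hom_inv_id_apply (Scheme.ΓSpecIso (CommRingCat.of K)) _
      map_add' := fun c d => map_add (Scheme.ΓSpecIso (CommRingCat.of K)).inv.hom c d
      map_smul' := fun a c => by
        show (Scheme.ΓSpecIso (CommRingCat.of K)).inv (a • c) =
          (show Γ(Spec (CommRingCat.of K), ⊤) from
            (τ A K).app ⊤ ((Spec (CommRingCat.of A)).presheaf.map (homOfLE (le_top : (⊤ : (Spec (CommRingCat.of A)).Opens) ≤ ⊤)).op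
              ((Scheme.ΓSpecIso (CommRingCat.of A)).inv a))) *
            (show Γ(Spec (CommRingCat.of K), ⊤) from (Scheme.ΓSpecIso (CommRingCat.of K)).inv c)
        rw [Algebra.smul_def, map_mul, ← appTop_inv]
        congr 2 }

variable (A K) in
/-- The sections are `K`, in the category of modules. -/
def κK : ModuleCat.of A K ≅ M0 A K := (κlin A K).toModuleIso

instance isIso_fromTilde : IsIso (ε A K) :=
  haveI : IsIso (Scheme.Modules.fromTildeΓ (R := CommRingCat.of K)
      (SheafOfModules.unit.{u} (Spec (CommRingCat.of K)).ringCatSheaf)) :=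
    isIso_fromTildeΓ_iff.mpr ⟨_, ⟨tildeSelf⟩⟩
  isIso_fromTildeΓ_pushforward (CommRingCat.ofHom (algebraMap A K))
    (SheafOfModules.unit.{u} (Spec (CommRingCat.of K)).ringCatSheaf)

variable {X XT : Scheme.{u}} [X.Over (Spec (CommRingCat.of A))] [XT.Over (Spec (CommRingCat.of K))] {g : XT ⟶ X}
  (hsq : IsPullback (XT ↘ Spec (CommRingCat.of K)) g (τ A K) (X ↘ Spec (CommRingCat.of A)))
  (F : X.Modules) (hF : Coh.IsQCoh F)

/-- `f^*(M~) ⊗ F ≅ F ⊗ f^*(M~)`. -/
def flipIso : CohIII.tensorAFunctor A F ≅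
    tilde.functor (CommRingCat.of A) ⋙ LeadTBC.Φ (X ↘ Spec (CommRingCat.of A)) F :=
  Functor.isoWhiskerLeft _ (Functor.isoWhiskerLeft _
    (H16Derived.KFlat.Stalk.tensorRightModIso F ≪≫
      (H15Site.ModTensor.tLIso (O := X.sheaf) F : (DCoh.tensorBi (X := X)).obj F ≅ _).symm))

include hsq hF in
/-- The endomorphisms of the fibre, semilinearly. -/
theorem exists_endEquiv (N : ModuleCat.{u} A)
    (Φ : CohIII.tensorAFunctor A F ⋙ preadditiveCoyoneda.obj (op F) ≅
      (linearCoyoneda A (ModuleCat.{u} A)).obj (op N) ⋙ forget₂ (ModuleCat.{u} A) AddCommGrpCat.{u}) :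
    ∃ Θ : (N →ₗ[A] K) ≃+ ((Scheme.Modules.pullback g).obj F ⟶ (Scheme.Modules.pullback g).obj F),
      ∀ (a : A) (h : N →ₗ[A] K), Θ (a • h) = algebraMap A K a • Θ h := by
  letI : (Spec (CommRingCat.of A)).Over (Spec (CommRingCat.of A)) := ⟨𝟙 _⟩
  let p := X ↘ Spec (CommRingCat.of A)
  haveI : IsAffineHom (τ A K) := inferInstance
  haveI := Kunneth.isIso_γ hsq F hF
  let G := (Scheme.Modules.pullback g).obj F
  let P := (Scheme.Modules.pushforward g).obj G
  let e1 : (CohIII.tensorAFunctor A F).obj (M0 A K) ≅ P :=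
    (flipIso (A := A) F).app _ ≪≫ (LeadTBC.Φ p F).mapIso (@asIso _ _ _ _ (ε A K) (isIso_fromTilde (A := A) (K := K))) ≪≫ asIso (Kunneth.γ hsq F)
  let adj := Scheme.Modules.pullbackPushforwardAdjunction g
  let E0 : (ModuleCat.of A K ⟶ M0 A K) := (κK A K).hom
  let b : (N →ₗ[A] K) ≃+ (N ⟶ M0 A K) :=
    { toFun := fun h => ModuleCat.ofHom h ≫ (κK A K).hom
      invFun := fun φ => (φ ≫ (κK A K).inv).hom
      left_inv := fun h => by simp
      right_inv := fun φ => by
        show ModuleCat.ofHom (φ ≫ (κK A K).inv).hom ≫ (κK A K).hom = φ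
        rw [ModuleCat.ofHom_hom, Category.assoc, Iso.inv_hom_id, Category.comp_id]
      map_add' := fun h h' => by rw [ModuleCat.ofHom_add, Preadditive.add_comp] }
  let c : (N ⟶ M0 A K) ≃+ (F ⟶ (CohIII.tensorAFunctor A F).obj (M0 A K)) :=
    (Φ.app (M0 A K)).symm.addCommGroupIsoToAddEquiv
  let d : (F ⟶ (CohIII.tensorAFunctor A F).obj (M0 A K)) ≃+ (F ⟶ P) :=
    { toFun := fun φ => φ ≫ e1.hom
      invFun := fun φ => φ ≫ e1.inv
      left_inv := fun φ => by simp
      right_inv := fun φ => by simp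
      map_add' := fun φ φ' => Preadditive.add_comp _ _ _ _ _ _ }
  let adjE : (F ⟶ P) ≃+ (G ⟶ G) :=
    { (adj.homEquiv F G).symm with
      map_add' := fun φ φ' => by
        haveI : (Scheme.Modules.pullback g).Additive := adj.left_adjoint_additive
        exact (adj.homAddEquiv F G).symm.map_add φ φ' }
  refine ⟨b.trans (c.trans (d.trans adjE)), fun a h => ?_⟩
  have hτ : g ≫ (X ↘ Spec (CommRingCat.of A)) = (XT ↘ Spec (CommRingCat.of K)) ≫ τ A K := hsq.w.symm
  have hs : a • 𝟙 (M0 A K) = moduleSpecΓFunctor.map (Formal.smulMod A (skyK A K) a) := by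
    refine ModuleCat.hom_ext (LinearMap.ext fun m => ?_)
    show a • m = (Spec (CommRingCat.of A)).presheaf.map (homOfLE (le_top : (⊤ : (Spec (CommRingCat.of A)).Opens) ≤ ⊤)).op
      (Coh.toGlobal (𝟙 (Spec (CommRingCat.of A))) a) • (show Γ(skyK A K, ⊤) from m)
    congr 1
  have he : (CohIII.tensorAFunctor A F).map (a • 𝟙 (M0 A K)) ≫ e1.hom = e1.hom ≫ Formal.smulMod A P a := by
    show _ ≫ (flipIso (A := A) F).hom.app _ ≫ _ ≫ Kunneth.γ hsq F = _
    rw [← Category.assoc, (flipIso (A := A) F).hom.naturality, Category.assoc, hs]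
    show _ ≫ (LeadTBC.Φ p F).map (tilde.functor _ |>.map (moduleSpecΓFunctor.map _)) ≫
      (LeadTBC.Φ p F).map (ε A K) ≫ Kunneth.γ hsq F = _
    have hn : (tilde.functor (CommRingCat.of A)).map (moduleSpecΓFunctor.map (Formal.smulMod A (skyK A K) a)) ≫
        (ε A K) = (ε A K) ≫ Formal.smulMod A (skyK A K) a :=
      Scheme.Modules.fromTildeΓNatTrans.naturality _
    rw [← Functor.map_comp_assoc]
    refine (congrArg (fun t => (flipIso (A := A) F).hom.app _ ≫ (LeadTBC.Φ p F).map t ≫ Kunneth.γ hsq F) hn).trans ?_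
    rw [Functor.map_comp_assoc, Kunneth.Φ_smulMod F (Category.comp_id _) _ a]
    rw [show Formal.smulMod A _ a ≫ Kunneth.γ hsq F = Kunneth.γ hsq F ≫ Formal.smulMod A P a from
      (KLin.comp_smulModΓ _ _).symm]
    simp only [e1, Iso.trans_hom, Functor.mapIso_hom, asIso_hom, Iso.app_hom, Category.assoc]
    rfl
  have hc : ∀ φ : N ⟶ M0 A K, c (φ ≫ (a • 𝟙 (M0 A K))) = c φ ≫ (CohIII.tensorAFunctor A F).map (a • 𝟙 (M0 A K)) :=
    fun φ => ConcreteCategory.congr_hom (Φ.inv.naturality (a • 𝟙 (M0 A K))) φ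
  show adjE (d (c (b (a • h)))) = _
  rw [show b (a • h) = b h ≫ (a • 𝟙 (M0 A K)) from by
      rw [Linear.comp_smul, Category.comp_id]
      show ModuleCat.ofHom (a • h) ≫ _ = a • (ModuleCat.ofHom h ≫ _)
      rw [← Linear.smul_comp]; rfl, hc]
  show (adj.homEquiv F G).symm ((c (b h) ≫ _) ≫ e1.hom) = algebraMap A K a • (adj.homEquiv F G).symm (c (b h) ≫ e1.hom)
  rw [Category.assoc, he, ← Category.assoc, ← Kunneth.pushforward_map_smulMod g hτ G a,
    adj.homEquiv_naturality_right_symm, KLin.smul_def]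
  exact KLin.comp_smulModΓ _ _

include hsq hF in
/-- The fibre is simple exactly when the representing module has rank at most one there. -/
theorem simple_iff (hK : IsFrac A K) (N : ModuleCat.{u} A) [Module.Finite A N]
    (Φ : CohIII.tensorAFunctor A F ⋙ preadditiveCoyoneda.obj (op F) ≅
      (linearCoyoneda A (ModuleCat.{u} A)).obj (op N) ⋙ forget₂ (ModuleCat.{u} A) AddCommGrpCat.{u})
    (h0 : ¬ IsZero ((Scheme.Modules.pullback g).obj F)) :
    (∀ φ : (Scheme.Modules.pullback g).obj F ⟶ (Scheme.Modules.pullback g).obj F,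
        ∃ c : K, φ = Formal.smulMod K _ c) ↔ Module.finrank K (K ⊗[A] N) ≤ 1 := by
  obtain ⟨Θ, hΘ⟩ := exists_endEquiv hsq F hF N Φ
  have hl : ∀ (c : K) (h : N →ₗ[A] K), Θ (c • h) = c • Θ h := fun c h => by
    obtain ⟨a, s, hs, hc⟩ := hK c
    refine smul_right_injective _ hs ?_
    show algebraMap A K s • Θ (c • h) = algebraMap A K s • (c • Θ h)
    rw [← hΘ, smul_smul, hc, ← hΘ]
    refine congrArg Θ (LinearMap.ext fun m => ?_)
    show s • (c * h m) = a • h m
    rw [Algebra.smul_def, Algebra.smul_def, ← mul_assoc, hc]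
  let L : (N →ₗ[A] K) ≃ₗ[K] ((Scheme.Modules.pullback g).obj F ⟶ (Scheme.Modules.pullback g).obj F) :=
    { Θ with map_smul' := hl }
  haveI : Module.Finite K (N →ₗ[A] K) := Module.Finite.equiv (LinearMap.liftBaseChangeEquiv K).symm
  haveI := Module.Finite.equiv L
  rw [← finrank_hom, L.finrank_eq]
  constructor
  · intro h
    refine finrank_le_one (𝟙 _) fun φ => ?_
    obtain ⟨c, rfl⟩ := h φ
    exact ⟨c, KLin.smul_id _ _⟩
  · intro h φ
    obtain ⟨v, hv⟩ := finrank_le_one_iff.1 h
    obtain ⟨e, he⟩ := hv (𝟙 _)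
    have he0 : e ≠ 0 := fun z => h0 ((IsZero.iff_id_eq_zero _).2 (by rw [← he, z, zero_smul]))
    obtain ⟨d, hd⟩ := hv φ
    exact ⟨d * e⁻¹, by rw [← KLin.smul_id, ← he, smul_smul, mul_assoc, inv_mul_cancel₀ he0, mul_one, hd]⟩

end Groth.Agent.H10Coh.FamEnd
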