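import Groth.Agent.H10Coh.FamEnd.Corep
import Groth.Agent.S4500
import Groth.Agent.H17.ConsModModels
import Groth.Agent.H16Derived.BaseChange.Main

/-!
# Openness of the locus of simple fibres
-/

set_option autoImplicit false
set_option linter.style.haveILetI false
set_option linter.unusedSectionVars false
set_option backward.isDefEq.respectTransparency.types false

noncomputable section

universe u

open CategoryTheory CategoryTheory.Limits AlgebraicGeometry TopologicalSpace TensorProduct

namespace Groth.Agent.H10Coh.FamEnd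

variable {Y S : Scheme.{u}} (f : Y ⟶ S)

/-- Every endomorphism of the fibre over `s` is a scalar. -/
def ScalarAt (F : Y.Modules) (s : S) : Prop :=
  letI : (f.fiber s).Over (Spec (CommRingCat.of (S.residueField s))) := ⟨f.fiberToSpecResidueField s⟩
  ∀ φ : CohIII.fiberMod f F s ⟶ CohIII.fiberMod f F s, ∃ c : S.residueField s, φ = Formal.smulMod (S.residueField s) _ c

theorem scalar_iso {K : Type u} [CommRing K] {X : Scheme.{u}} [X.Over (Spec (CommRingCat.of K))] {M N : X.Modules}
    (e : M ≅ N) (h : ∀ φ : M ⟶ M, ∃ c : K, φ = Formal.smulMod K M c) (φ : N ⟶ N) :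
    ∃ c : K, φ = Formal.smulMod K N c := by
  obtain ⟨c, hc⟩ := h (e.hom ≫ φ ≫ e.inv)
  refine ⟨c, ?_⟩
  rw [← cancel_epi e.hom, ← cancel_mono e.inv, Category.assoc, hc]
  rw [show e.hom ≫ Formal.smulMod K N c = Formal.smulMod K M c ≫ e.hom from KLin.comp_smulModΓ _ _]
  simp

theorem isFrac_residueField {V : S.Opens} (hV : IsAffineOpen V) {y : S} (hy : y ∈ V) :
    letI := (S.evaluation V y hy).hom.toAlgebra
    IsFrac Γ(S, V) (S.residueField y) := by
  letI := (S.evaluation V y hy).hom.toAlgebra
  letI : Algebra Γ(S, V) (S.presheaf.stalk y) := (S.presheaf.germ V y hy).hom.toAlgebra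
  haveI : IsLocalization.AtPrime (S.presheaf.stalk y) (hV.primeIdealOf ⟨y, hy⟩).asIdeal :=
    hV.isLocalization_stalk ⟨y, hy⟩
  intro c
  obtain ⟨z, rfl⟩ := S.residue_surjective y c
  obtain ⟨⟨a, s⟩, hz⟩ := IsLocalization.surj (hV.primeIdealOf ⟨y, hy⟩).asIdeal.primeCompl z
  refine ⟨a, s, ?_, ?_⟩
  · exact ((IsLocalization.map_units (S.presheaf.stalk y) s).map (S.residue y).hom).ne_zero
  · show S.residue y (S.presheaf.germ V y hy s) * S.residue y z = S.residue y (S.presheaf.germ V y hy a)
    rw [← map_mul, mul_comm]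
    exact congrArg _ hz

theorem fromSpecResidueField_eq {V : S.Opens} (hV : IsAffineOpen V) {y : S} (hy : y ∈ V) :
    S.fromSpecResidueField y = Spec.map (S.evaluation V y hy) ≫ hV.fromSpec := by
  rw [← Scheme.germ_residue, Spec.map_comp, Category.assoc]
  show _ = Spec.map (S.residue y) ≫ hV.fromSpecStalk hy
  rw [hV.fromSpecStalk_eq_fromSpecStalk]
  rfl

/-- If over each affine open the family has a presentation by bundles, the simple locus is open. -/
theorem isOpen_scalarAt [IsLocallyNoetherian S] [IsProper f] (F : Y.Modules) (hF : Coh.IsCoh F)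
    (hfl : FlatMod.IsFlatOver f F)
    (hpres : ∀ (V : S.Opens) (hV : IsAffineOpen V),
      ∃ (E₀ E₁ : (pullback f hV.fromSpec).Modules) (v : E₁ ⟶ E₀)
        (π : E₀ ⟶ (Scheme.Modules.pullback (pullback.fst f hV.fromSpec)).obj F) (w : v ≫ π = 0),
        FlatMod.IsFinLocFree E₀ ∧ FlatMod.IsFinLocFree E₁ ∧ Epi π ∧ (ShortComplex.mk v π w).Exact)
    (hne : ∀ s : S, ¬ IsZero (CohIII.fiberMod f F s)) :
    IsOpen {s : S | ScalarAt f F s} := by
  refine isOpen_iff_forall_mem_open.2 fun s hs => ?_
  obtain ⟨V, hV, hsV, -⟩ := exists_isAffineOpen_mem_and_subset (U := (⊤ : S.Opens)) (x := s) trivial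
  haveI : IsNoetherianRing Γ(S, V) := IsLocallyNoetherian.component_noetherian ⟨V, hV⟩
  let A := Γ(S, V)
  let X' := pullback f hV.fromSpec
  let i := pullback.fst f hV.fromSpec
  letI : X'.Over (Spec (CommRingCat.of A)) := ⟨pullback.snd f hV.fromSpec⟩
  haveI : IsProper (X' ↘ Spec (CommRingCat.of A)) := MorphismProperty.pullback_snd (P := @IsProper) _ _ inferInstance
  let F' := (Scheme.Modules.pullback i).obj F
  have hF' : Coh.IsCoh F' := H17.ConsProp.isCoh_pullback i hF
  have hfl' : FlatMod.IsFlatOver (X' ↘ Spec (CommRingCat.of A)) F' :=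
    H16Derived.BaseChange.isFlatOver_pullback (IsPullback.of_hasPullback f hV.fromSpec) hfl
  obtain ⟨E₀, E₁, v, π, w, h₀, h₁, hπ, hex⟩ := hpres V hV
  haveI := hπ
  obtain ⟨N, hN, ⟨Φ⟩⟩ := Groth.Agent.S4500.result A X' F' hF' hfl' F' E₀ E₁ h₀ h₁ v π w hex
  haveI := hN
  have key : ∀ (y : S) (hy : y ∈ V),
      letI : Algebra A (S.residueField y) := (S.evaluation V y hy).hom.toAlgebra
      (ScalarAt f F y ↔ Module.finrank (S.residueField y) (S.residueField y ⊗[A] N) ≤ 1) := by
    intro y hy
    letI : Algebra A (S.residueField y) := (S.evaluation V y hy).hom.toAlgebra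
    letI : (f.fiber y).Over (Spec (CommRingCat.of (S.residueField y))) := ⟨f.fiberToSpecResidueField y⟩
    have hbig : IsPullback (f.fiberι y) (f.fiberToSpecResidueField y) f
        (τ A (S.residueField y) ≫ hV.fromSpec) := by
      have h := IsPullback.of_hasPullback f (S.fromSpecResidueField y)
      have e : τ A (S.residueField y) ≫ hV.fromSpec = S.fromSpecResidueField y := (fromSpecResidueField_eq hV hy).symm
      exact e ▸ h
    let t := IsPullback.of_hasPullback f hV.fromSpec
    let g : f.fiber y ⟶ X' := t.lift (f.fiberι y) (f.fiberToSpecResidueField y ≫ τ A (S.residueField y))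
      (by rw [hbig.w, Category.assoc])
    have hsq : IsPullback (f.fiber y ↘ Spec (CommRingCat.of (S.residueField y))) g (τ A (S.residueField y))
        (X' ↘ Spec (CommRingCat.of A)) := (IsPullback.of_right' hbig t).flip
    let e : (Scheme.Modules.pullback g).obj F' ≅ CohIII.fiberMod f F y :=
      (Scheme.Modules.pullbackComp g i).app F ≪≫ (Scheme.Modules.pullbackCongr (t.lift_fst _ _ _)).app F
    rw [← simple_iff hsq F' hF'.1 (isFrac_residueField hV hy) N Φ fun h => hne y (h.of_iso e.symm)]
    exact ⟨fun h => scalar_iso e.symm h, fun h => scalar_iso e h⟩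
  letI : Algebra A (S.residueField s) := (S.evaluation V s hsV).hom.toAlgebra
  obtain ⟨t, n, ht, hn⟩ := exists_smul_mem (isFrac_residueField hV hsV) ((key s hsV).1 hs)
  refine ⟨(S.basicOpen t : Set S), fun y hy => ?_, (S.basicOpen t).2,
    (S.evaluation_ne_zero_iff_mem_basicOpen s hsV t).1 ht⟩
  have hyV : y ∈ V := S.basicOpen_le t hy
  letI : Algebra A (S.residueField y) := (S.evaluation V y hyV).hom.toAlgebra
  exact (key y hyV).2 (finrank_le_one_of_smul_mem ((S.evaluation_ne_zero_iff_mem_basicOpen y hyV t).2 hy) n hn)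

end Groth.Agent.H10Coh.FamEnd
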