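import Mathlib.RingTheory.LocalRing.Module
import Mathlib.RingTheory.Support
import Mathlib.LinearAlgebra.Dual.Lemmas
import Mathlib.LinearAlgebra.TensorProduct.Tower

/-!
# Loci where a finite module is cyclic
-/

set_option autoImplicit false
set_option linter.style.haveILetI false

universe u

open TensorProduct

namespace Groth.Agent.H10Coh.FamEnd

variable {A : Type u} [CommRing A] {N : Type u} [AddCommGroup N] [Module A N]
  {K : Type u} [Field K] [Algebra A K]

/-- If `t • N` is cyclic and `t` is nonzero in `K`, then `K ⊗ N` has dimension at most one. -/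
theorem finrank_le_one_of_smul_mem {t : A} (ht : algebraMap A K t ≠ 0) (n : N)
    (h : ∀ m, t • m ∈ Submodule.span A {n}) : Module.finrank K (K ⊗[A] N) ≤ 1 := by
  refine finrank_le_one (1 ⊗ₜ[A] n) fun w => ?_
  induction w using TensorProduct.induction_on with
  | zero => exact ⟨0, zero_smul _ _⟩
  | add x y hx hy =>
    obtain ⟨c, rfl⟩ := hx
    obtain ⟨d, rfl⟩ := hy
    exact ⟨c + d, add_smul _ _ _⟩
  | tmul c m =>
    obtain ⟨a, ha⟩ := Submodule.mem_span_singleton.1 (h m)
    refine ⟨c * (algebraMap A K t)⁻¹ * algebraMap A K a, ?_⟩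
    rw [TensorProduct.smul_tmul', smul_eq_mul, mul_one, ← Algebra.commutes, ← Algebra.smul_def,
      TensorProduct.smul_tmul, ha, ← TensorProduct.smul_tmul, Algebra.smul_def, mul_left_comm,
      mul_inv_cancel₀ ht, mul_one]

/-- `K` is generated as a field by the image of `A`. -/
def IsFrac (A K : Type u) [CommRing A] [Field K] [Algebra A K] : Prop :=
  ∀ c : K, ∃ a s : A, algebraMap A K s ≠ 0 ∧ algebraMap A K s * c = algebraMap A K a

/-- Where `K ⊗ N` has dimension at most one, `N` is cyclic up to a scalar. -/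
theorem exists_smul_mem [Module.Finite A N] (hK : IsFrac A K) (h : Module.finrank K (K ⊗[A] N) ≤ 1) :
    ∃ (t : A) (n : N), algebraMap A K t ≠ 0 ∧ ∀ m, t • m ∈ Submodule.span A {n} := by
  obtain ⟨n, hn⟩ : ∃ n : N, ∀ m : N, ∃ c : K, c • (1 ⊗ₜ[A] n : K ⊗[A] N) = 1 ⊗ₜ[A] m := by
    by_cases hz : ∀ m : N, (1 ⊗ₜ[A] m : K ⊗[A] N) = 0
    · exact ⟨0, fun m => ⟨0, by rw [zero_smul, hz]⟩⟩
    · obtain ⟨n, hn⟩ := not_forall.1 hz
      obtain ⟨v, hv⟩ := finrank_le_one_iff.1 h
      obtain ⟨c, hc⟩ := hv (1 ⊗ₜ[A] n)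
      have hc0 : c ≠ 0 := fun e => hn (by rw [← hc, e, zero_smul])
      refine ⟨n, fun m => ?_⟩
      obtain ⟨d, hd⟩ := hv (1 ⊗ₜ[A] m)
      exact ⟨d * c⁻¹, by rw [← hc, smul_smul, mul_assoc, inv_mul_cancel₀ hc0, mul_one, hd]⟩
  let Q := N ⧸ Submodule.span A {n}
  have hQ : Subsingleton (K ⊗[A] Q) := by
    refine subsingleton_of_forall_eq 0 fun w => ?_
    induction w using TensorProduct.induction_on with
    | zero => rfl
    | add x y hx hy => rw [hx, hy, add_zero]
    | tmul c q =>
      obtain ⟨m, rfl⟩ := Submodule.mkQ_surjective _ q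
      obtain ⟨d, hd⟩ := hn m
      have h1 : (1 ⊗ₜ[A] Submodule.mkQ (Submodule.span A {n}) m : K ⊗[A] Q) = 0 := by
        have := congrArg ((Submodule.mkQ (Submodule.span A {n})).baseChange K) hd
        rw [map_smul, LinearMap.baseChange_tmul, LinearMap.baseChange_tmul] at this
        rw [← this, (Submodule.Quotient.mk_eq_zero _).2 (Submodule.mem_span_singleton_self n) |> fun e =>
          show Submodule.mkQ (Submodule.span A {n}) n = 0 from e, TensorProduct.tmul_zero, smul_zero]
      rw [← mul_one c, ← smul_eq_mul, ← TensorProduct.smul_tmul', h1, smul_zero]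
  let p : PrimeSpectrum A := ⟨RingHom.ker (algebraMap A K), RingHom.ker_isPrime _⟩
  haveI := p.isPrime
  let φ : p.asIdeal.ResidueField →ₐ[A] K :=
    Ideal.ResidueField.liftₐ p.asIdeal (Algebra.ofId A K) (fun _ h => h)
      (fun s hs => (Ne.isUnit (show algebraMap A K s ≠ 0 from hs)))
  have hφ : Function.Bijective φ := by
    refine ⟨φ.toRingHom.injective, fun c => ?_⟩
    obtain ⟨a, s, hs, hc⟩ := hK c
    refine ⟨algebraMap A _ a * (algebraMap A _ s)⁻¹, ?_⟩
    rw [map_mul, map_inv₀, φ.commutes, φ.commutes, ← hc, mul_comm (algebraMap A K s) c, mul_assoc,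
      mul_inv_cancel₀ hs, mul_one]
  have hsub : Subsingleton (p.asIdeal.ResidueField ⊗[A] Q) :=
    (TensorProduct.congr (AlgEquiv.ofBijective φ hφ).toLinearEquiv (LinearEquiv.refl A Q)).toEquiv.subsingleton
  have hp : p ∉ Module.support A Q := fun hm => by
    have := (Module.mem_support_iff_nontrivial_residueField_tensorProduct p).1 hm
    exact not_nontrivial _ this
  rw [Module.support_eq_zeroLocus, PrimeSpectrum.mem_zeroLocus] at hp
  obtain ⟨t, ht, htp⟩ := Set.not_subset.1 hp
  refine ⟨t, n, htp, fun m => ?_⟩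
  rw [← Submodule.Quotient.mk_eq_zero, Submodule.Quotient.mk_smul]
  exact Module.mem_annihilator.1 ht _

/-- The homomorphisms to `K` have the dimension of `K ⊗ N`. -/
theorem finrank_hom [Module.Finite A N] :
    Module.finrank K (N →ₗ[A] K) = Module.finrank K (K ⊗[A] N) := by
  rw [← Subspace.dual_finrank_eq (K := K) (V := K ⊗[A] N)]
  exact (LinearMap.liftBaseChangeEquiv K).finrank_eq

end Groth.Agent.H10Coh.FamEnd
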